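import Groth.Agent.EllLift6.Rigid
import Groth.Agent.Hensel.CplTensor
import Mathlib.AlgebraicGeometry.EllipticCurve.IsomOfJ
import Mathlib.FieldTheory.IsAlgClosed.AlgebraicClosure
import Mathlib.RingTheory.AdicCompletion.Noetherian
import Mathlib.RingTheory.Henselian
import Mathlib.RingTheory.Nakayama

/-!
# Lifting isomorphisms of elliptic curves over a complete local domain
-/

set_option autoImplicit false
set_option linter.style.haveILetI false

universe u

namespace Groth.Agent.EllLift6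

open WeierstrassCurve IsLocalRing Polynomial

theorem exists_variableChange (R : Type u) [CommRing R] [IsDomain R]
    [IsNoetherianRing R] [IsLocalRing R] [IsAdicComplete (IsLocalRing.maximalIdeal R) R]
    [IsAlgClosed (IsLocalRing.ResidueField R)]
    (W₁ W₂ : WeierstrassCurve R) [W₁.IsElliptic] [W₂.IsElliptic] (hj : W₁.j = W₂.j) :
    ∃ C : WeierstrassCurve.VariableChange R, C • W₁ = W₂ := by
  classical
  let K := AlgebraicClosure (FractionRing R)
  let g : R →+* K := algebraMap R K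
  have hg : Function.Injective g := by
    show Function.Injective (algebraMap R K)
    rw [IsScalarTower.algebraMap_eq R (FractionRing R) K]
    exact (algebraMap (FractionRing R) K).injective.comp (IsFractionRing.injective R (FractionRing R))
  obtain ⟨C, hC⟩ := exists_variableChange_of_j_eq (W₁.map g) (W₂.map g)
    (by rw [map_j, map_j, hj])
  let O := integralClosure R K
  have hO : ∀ a : R, g a ∈ O := fun a => O.algebraMap_mem a
  have htrans : ∀ x : K, IsIntegral O x → x ∈ O := fun x hx => isIntegral_trans x hx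
  -- integrality of the change of variables
  have hu12 : (C.u : K) ^ 12 * g W₂.Δ = g W₁.Δ := by
    have h := congrArg WeierstrassCurve.Δ hC
    rw [variableChange_Δ, map_Δ, map_Δ] at h
    rw [← h, ← mul_assoc, ← mul_pow, Units.mul_inv, one_pow, one_mul]
  have hu : (C.u : K) ∈ O := by
    obtain ⟨d, hd⟩ := W₂.isUnit_Δ.exists_right_inv
    refine IsIntegral.of_pow (by norm_num : 0 < 12) ?_
    have : (C.u : K) ^ 12 = g (W₁.Δ * d) := by
      rw [map_mul, ← hu12, mul_assoc, ← map_mul, hd, map_one, mul_one]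
    rw [this]
    exact isIntegral_algebraMap
  have hu' : (↑C.u⁻¹ : K) ∈ O := by
    obtain ⟨d, hd⟩ := W₁.isUnit_Δ.exists_right_inv
    refine IsIntegral.of_pow (by norm_num : 0 < 12) ?_
    have : (↑C.u⁻¹ : K) ^ 12 = g (W₂.Δ * d) := by
      have h1 : g W₁.Δ * g d = 1 := by rw [← map_mul, hd, map_one]
      rw [map_mul]
      calc (↑C.u⁻¹ : K) ^ 12 = (↑C.u⁻¹ : K) ^ 12 * (g W₁.Δ * g d) := by rw [h1, mul_one]
        _ = ((↑C.u⁻¹ : K) * C.u) ^ 12 * (g W₂.Δ * g d) := by rw [← hu12]; ring
        _ = _ := by rw [Units.inv_mul, one_pow, one_mul]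
    rw [this]
    exact isIntegral_algebraMap
  have hr : C.r ∈ O := by
    have h6 := congrArg WeierstrassCurve.b₆ hC
    have h8 := congrArg WeierstrassCurve.b₈ hC
    rw [variableChange_b₆] at h6
    rw [variableChange_b₈] at h8
    simp only [map_b₂, map_b₄, map_b₆, map_b₈] at h6 h8
    have q6 : g W₁.b₆ + 2 * C.r * g W₁.b₄ + C.r ^ 2 * g W₁.b₂ + 4 * C.r ^ 3 = (C.u : K) ^ 6 * g W₂.b₆ := by
      rw [← h6, ← mul_assoc, ← mul_pow, Units.mul_inv, one_pow, one_mul]
    have q8 : g W₁.b₈ + 3 * C.r * g W₁.b₆ + 3 * C.r ^ 2 * g W₁.b₄ + C.r ^ 3 * g W₁.b₂ + 3 * C.r ^ 4 =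
        (C.u : K) ^ 8 * g W₂.b₈ := by
      rw [← h8, ← mul_assoc, ← mul_pow, Units.mul_inv, one_pow, one_mul]
    let a : O := -⟨g W₁.b₄, hO _⟩
    let b : O := -(2 * ⟨g W₁.b₆, hO _⟩ + ⟨(C.u : K), hu⟩ ^ 6 * ⟨g W₂.b₆, hO _⟩)
    let c : O := -(⟨g W₁.b₈, hO _⟩ - ⟨(C.u : K), hu⟩ ^ 8 * ⟨g W₂.b₈, hO _⟩)
    refine htrans _ ⟨X ^ 4 + (Polynomial.C a * X ^ 2 + Polynomial.C b * X + Polynomial.C c), ?_, ?_⟩
    · exact monic_X_pow_add (lt_of_le_of_lt degree_quadratic_le (by norm_num))
    · simp only [eval₂_add, eval₂_mul, eval₂_C, eval₂_X_pow, eval₂_X]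
      show C.r ^ 4 + ((a : K) * C.r ^ 2 + (b : K) * C.r + (c : K)) = 0
      simp only [a, b, c, Subalgebra.coe_neg, Subalgebra.coe_add, Subalgebra.coe_sub, Subalgebra.coe_mul,
        Subalgebra.coe_pow]
      rw [show ((2 : O) : K) = 2 from map_ofNat O.val 2]
      linear_combination C.r * q6 - q8
  have hs : C.s ∈ O := by
    have h2 := congrArg WeierstrassCurve.a₂ hC
    rw [variableChange_a₂] at h2
    simp only [map_a₁, map_a₂] at h2
    have q2 : g W₁.a₂ - C.s * g W₁.a₁ + 3 * C.r - C.s ^ 2 = (C.u : K) ^ 2 * g W₂.a₂ := by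
      rw [← h2, ← mul_assoc, ← mul_pow, Units.mul_inv, one_pow, one_mul]
    let b : O := ⟨g W₁.a₁, hO _⟩
    let c : O := ⟨(C.u : K), hu⟩ ^ 2 * ⟨g W₂.a₂, hO _⟩ - ⟨g W₁.a₂, hO _⟩ - 3 * ⟨C.r, hr⟩
    refine htrans _ ⟨X ^ 2 + (Polynomial.C b * X + Polynomial.C c), ?_, ?_⟩
    · exact monic_X_pow_add (lt_of_le_of_lt degree_linear_le (by norm_num))
    · simp only [eval₂_add, eval₂_mul, eval₂_C, eval₂_X_pow, eval₂_X]
      show C.s ^ 2 + ((b : K) * C.s + (c : K)) = 0
      simp only [b, c, Subalgebra.coe_sub, Subalgebra.coe_mul, Subalgebra.coe_pow]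
      rw [show ((3 : O) : K) = 3 from map_ofNat O.val 3]
      linear_combination -q2
  have ht : C.t ∈ O := by
    have h6 := congrArg WeierstrassCurve.a₆ hC
    rw [variableChange_a₆] at h6
    simp only [map_a₁, map_a₂, map_a₃, map_a₄, map_a₆] at h6
    have q6 : g W₁.a₆ + C.r * g W₁.a₄ + C.r ^ 2 * g W₁.a₂ + C.r ^ 3 - C.t * g W₁.a₃ - C.t ^ 2
        - C.r * C.t * g W₁.a₁ = (C.u : K) ^ 6 * g W₂.a₆ := by
      rw [← h6, ← mul_assoc, ← mul_pow, Units.mul_inv, one_pow, one_mul]
    let b : O := ⟨g W₁.a₃, hO _⟩ + ⟨C.r, hr⟩ * ⟨g W₁.a₁, hO _⟩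
    let c : O := ⟨(C.u : K), hu⟩ ^ 6 * ⟨g W₂.a₆, hO _⟩ - (⟨g W₁.a₆, hO _⟩ + ⟨C.r, hr⟩ * ⟨g W₁.a₄, hO _⟩ +
      ⟨C.r, hr⟩ ^ 2 * ⟨g W₁.a₂, hO _⟩ + ⟨C.r, hr⟩ ^ 3)
    refine htrans _ ⟨X ^ 2 + (Polynomial.C b * X + Polynomial.C c), ?_, ?_⟩
    · exact monic_X_pow_add (lt_of_le_of_lt degree_linear_le (by norm_num))
    · simp only [eval₂_add, eval₂_mul, eval₂_C, eval₂_X_pow, eval₂_X]
      show C.t ^ 2 + ((b : K) * C.t + (c : K)) = 0
      simp only [b, c, Subalgebra.coe_add, Subalgebra.coe_sub, Subalgebra.coe_mul, Subalgebra.coe_pow]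
      linear_combination -q6
  -- the finite local extension generated by the change of variables
  let G : Set K := {(C.u : K), (↑C.u⁻¹ : K), C.r, C.s, C.t}
  have hGO : ∀ x ∈ G, IsIntegral R x := by
    intro x hx
    simp only [G, Set.mem_insert_iff, Set.mem_singleton_iff] at hx
    rcases hx with rfl | rfl | rfl | rfl | rfl
    exacts [hu, hu', hr, hs, ht]
  let R₀ := Algebra.adjoin R G
  haveI : Module.Finite R R₀ := Module.Finite.iff_fg.2 (fg_adjoin_of_finite (by simp [G]) hGO)
  haveI : HenselianLocalRing R :=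
    { is_henselian := fun f hf a₀ h1 h2 => by
        haveI : HenselianRing R (maximalIdeal R) := IsAdicComplete.henselianRing R _
        exact HenselianRing.is_henselian f hf a₀ h1 (h2.map _) }
  haveI : IsLocalRing R₀ := Hensel.isLocalRing_of_isIntegral_domain R R₀
  have hmem : ∀ x ∈ G, x ∈ R₀ := fun x hx => Algebra.subset_adjoin hx
  let C₀ : VariableChange R₀ :=
    { u := ⟨⟨_, hmem _ (by simp [G])⟩, ⟨(↑C.u⁻¹ : K), hmem _ (by simp [G])⟩,
        Subtype.ext C.u.mul_inv, Subtype.ext C.u.inv_mul⟩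
      r := ⟨C.r, hmem _ (by simp [G])⟩
      s := ⟨C.s, hmem _ (by simp [G])⟩
      t := ⟨C.t, hmem _ (by simp [G])⟩ }
  have hC₀map : C₀.map (R₀.val : R₀ →+* K) = C := by
    refine VariableChange.ext (Units.ext rfl) rfl rfl rfl
  have hval : ((R₀.val : R₀ →+* K)).comp (algebraMap R R₀) = g := RingHom.ext fun x => rfl
  have hinjW : Function.Injective fun W : WeierstrassCurve R₀ => W.map (R₀.val : R₀ →+* K) :=
    map_injective Subtype.val_injective
  have hC₀ : C₀ • W₁.map (algebraMap R R₀) = W₂.map (algebraMap R R₀) := hinjW (by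
    show (C₀ • W₁.map (algebraMap R R₀)).map (R₀.val : R₀ →+* K) = (W₂.map (algebraMap R R₀)).map (R₀.val : R₀ →+* K)
    rw [← map_variableChange, hC₀map, WeierstrassCurve.map_map, WeierstrassCurve.map_map, hval]
    exact hC)
  -- residue field and first order neighbourhood
  let k := ResidueField R
  let n := maximalIdeal R₀
  let M := (maximalIdeal R).map (algebraMap R R₀) ⊔ n * n
  have hmn : (maximalIdeal R).map (algebraMap R R₀) ≤ n := by
    rw [Ideal.map_le_iff_le_comap]
    haveI : (n.comap (algebraMap R R₀)).IsMaximal := Ideal.isMaximal_comap_of_isIntegral_of_isMaximal (R := R) n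
    exact (IsLocalRing.eq_maximalIdeal ‹_›).ge
  have hMn : M ≤ n := sup_le hmn Ideal.mul_le_left
  let Q := R₀ ⧸ M
  let q : R₀ →+* Q := Ideal.Quotient.mk M
  let f : k →+* Q := Ideal.Quotient.lift (maximalIdeal R) (q.comp (algebraMap R R₀)) fun x hx =>
    Ideal.Quotient.eq_zero_iff_mem.2 (le_sup_left (a := (maximalIdeal R).map (algebraMap R R₀)) (Ideal.mem_map_of_mem _ hx))
  have hf : ∀ x, f (residue R x) = q (algebraMap R R₀ x) := fun x => rfl
  haveI : n.IsMaximal := maximalIdeal.isMaximal R₀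
  let π' : k →+* R₀ ⧸ n := Ideal.Quotient.lift (maximalIdeal R) ((Ideal.Quotient.mk n).comp (algebraMap R R₀)) fun x hx =>
    Ideal.Quotient.eq_zero_iff_mem.2 (hmn (Ideal.mem_map_of_mem _ hx))
  letI := Ideal.Quotient.field n
  have hπ : Function.Bijective π' := by
    letI := π'.toAlgebra
    haveI : IsScalarTower R k (R₀ ⧸ n) := IsScalarTower.of_algebraMap_eq fun x => rfl
    haveI : Module.Finite k (R₀ ⧸ n) := Module.Finite.of_restrictScalars_finite R k _
    exact IsAlgClosed.algebraMap_bijective_of_isIntegral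
  let π : Q →+* k := ((RingEquiv.ofBijective π' hπ).symm : R₀ ⧸ n →+* k).comp (Ideal.Quotient.factor hMn)
  have hπf : ∀ c, π (f c) = c := fun c => by
    obtain ⟨x, rfl⟩ := residue_surjective c
    exact (RingEquiv.ofBijective π' hπ).symm_apply_apply (residue R x)
  have hker : ∀ a ∈ RingHom.ker π, ∀ b ∈ RingHom.ker π, a * b = 0 := by
    intro a ha b hb
    obtain ⟨a, rfl⟩ := Ideal.Quotient.mk_surjective a
    obtain ⟨b, rfl⟩ := Ideal.Quotient.mk_surjective b
    have hh : ∀ z, π (q z) = 0 → z ∈ n := fun z hz => Ideal.Quotient.eq_zero_iff_mem.1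
      ((RingEquiv.ofBijective π' hπ).symm.map_eq_zero_iff.1 hz)
    rw [← map_mul]
    exact Ideal.Quotient.eq_zero_iff_mem.2 (le_sup_right (a := (maximalIdeal R).map (algebraMap R R₀))
      (Ideal.mul_mem_mul (hh a ha) (hh b hb)))
  let CQ := C₀.map q
  let Cb := CQ.map π
  have hfres : f.comp (residue R) = q.comp (algebraMap R R₀) := RingHom.ext hf
  have hπfc : π.comp f = RingHom.id k := RingHom.ext hπf
  have hCQ : CQ • (W₁.map (residue R)).map f = (W₂.map (residue R)).map f := by
    rw [WeierstrassCurve.map_map, WeierstrassCurve.map_map, hfres, ← WeierstrassCurve.map_map, ← WeierstrassCurve.map_map, map_variableChange, hC₀]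
  have hCb : Cb • W₁.map (residue R) = W₂.map (residue R) := by
    have := congrArg (fun W : WeierstrassCurve Q => W.map π) hCQ
    beta_reduce at this
    rw [← map_variableChange, WeierstrassCurve.map_map, WeierstrassCurve.map_map, WeierstrassCurve.map_map, hπfc, RingHom.id_comp, WeierstrassCurve.map_id] at this
    exact this
  let C' := CQ * (Cb.map f)⁻¹
  have hC' : C' • (W₂.map (residue R)).map f = (W₂.map (residue R)).map f := by
    conv_lhs => rw [← hCb, ← map_variableChange, mul_smul, inv_smul_smul]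
    exact hCQ
  have hC'1 : C'.map π = 1 := by
    show VariableChange.mapHom π C' = 1
    rw [map_mul, map_inv, mul_inv_eq_one]
    show Cb = (Cb.map f).map π
    rw [VariableChange.map_map, hπfc, VariableChange.map_id]
  have hone : C' = 1 := by
    have h := congrArg (fun C : VariableChange k => ((C.u : k), C.r, C.s, C.t)) hC'1
    simp only [VariableChange.one_def, Prod.mk.injEq, Units.val_one] at h
    obtain ⟨a, b, c, d⟩ := h
    refine eq_one_of_smul_eq f (W₂.map (residue R)) (RingHom.ker π) hker C' ?_ b c d hC'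
    rw [RingHom.mem_ker, map_sub, map_one, sub_eq_zero]
    exact a
  have hCQf : CQ = Cb.map f := mul_inv_eq_one.1 hone
  let S : Subalgebra R R₀ :=
    { carrier := {x | q x ∈ f.range}
      mul_mem' := fun {a b} ha hb => by
        show q (a * b) ∈ f.range
        rw [map_mul]; exact f.range.mul_mem ha hb
      add_mem' := fun {a b} ha hb => by
        show q (a + b) ∈ f.range
        rw [map_add]; exact f.range.add_mem ha hb
      algebraMap_mem' := fun x => ⟨residue R x, hf x⟩ }
  have hS : ∀ x : R₀, q x ∈ f.range := by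
    intro x
    suffices x ∈ S from this
    obtain ⟨x, hx⟩ := x
    induction hx using Algebra.adjoin_induction with
    | mem y hy =>
      simp only [G, Set.mem_insert_iff, Set.mem_singleton_iff] at hy
      rcases hy with rfl | rfl | rfl | rfl | rfl
      · exact ⟨Cb.u, congrArg (fun C : VariableChange Q => (C.u : Q)) hCQf.symm⟩
      · exact ⟨(↑Cb.u⁻¹ : k), congrArg (fun C : VariableChange Q => (↑C.u⁻¹ : Q)) hCQf.symm⟩
      · exact ⟨Cb.r, congrArg VariableChange.r hCQf.symm⟩
      · exact ⟨Cb.s, congrArg VariableChange.s hCQf.symm⟩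
      · exact ⟨Cb.t, congrArg VariableChange.t hCQf.symm⟩
    | algebraMap r => exact S.algebraMap_mem r
    | add a b _ _ iha ihb => exact S.add_mem iha ihb
    | mul a b _ _ iha ihb => exact S.mul_mem iha ihb
  haveI : IsNoetherianRing R₀ := IsNoetherianRing.of_finite R R₀
  have hnm : n ≤ (maximalIdeal R).map (algebraMap R R₀) := by
    refine Submodule.le_of_le_smul_of_le_jacobson_bot (IsNoetherian.noetherian n)
      (IsLocalRing.maximalIdeal_le_jacobson _) fun x hx => ?_
    obtain ⟨c, hc⟩ := hS x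
    have h0 : π (q x) = 0 := (RingEquiv.ofBijective π' hπ).symm.map_eq_zero_iff.2 (Ideal.Quotient.eq_zero_iff_mem.2 hx)
    rw [← hc, hπf] at h0
    rw [h0, map_zero] at hc
    exact Ideal.Quotient.eq_zero_iff_mem.1 hc.symm
  have hsurj : Function.Surjective (algebraMap R R₀) := by
    have : (⊤ : Submodule R R₀) ≤ LinearMap.range (Algebra.linearMap R R₀) := by
      refine Submodule.le_of_le_smul_of_le_jacobson_bot Module.Finite.fg_top
        (IsLocalRing.maximalIdeal_le_jacobson _) fun x _ => ?_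
      obtain ⟨c, hc⟩ := hS x
      obtain ⟨y, rfl⟩ := residue_surjective c
      rw [hf] at hc
      have h1 : x - algebraMap R R₀ y ∈ (maximalIdeal R).map (algebraMap R R₀) :=
        (sup_le le_rfl (Ideal.mul_le_left.trans hnm) : M ≤ _) (Ideal.Quotient.eq.1 hc.symm)
      rw [← Submodule.restrictScalars_mem R, ← Ideal.smul_top_eq_map] at h1
      rw [← add_sub_cancel (algebraMap R R₀ y) x]
      exact Submodule.add_mem_sup (LinearMap.mem_range_self (Algebra.linearMap R R₀) y) h1
    exact fun x => this (Submodule.mem_top (x := x))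
  have hinj : Function.Injective (algebraMap R R₀) := fun a b h => hg (congrArg Subtype.val h)
  let e := RingEquiv.ofBijective (algebraMap R R₀) ⟨hinj, hsurj⟩
  refine ⟨C₀.map (e.symm : R₀ →+* R), ?_⟩
  have he : ((e.symm : R₀ →+* R)).comp (algebraMap R R₀) = RingHom.id R := RingHom.ext e.symm_apply_apply
  have := congrArg (fun W : WeierstrassCurve R₀ => W.map (e.symm : R₀ →+* R)) hC₀
  beta_reduce at this
  rw [← map_variableChange, WeierstrassCurve.map_map, WeierstrassCurve.map_map, he, WeierstrassCurve.map_id, WeierstrassCurve.map_id] at this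
  exact this

end Groth.Agent.EllLift6
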