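import Mathlib.AlgebraicGeometry.EllipticCurve.VariableChange
import Mathlib.Algebra.CharP.Defs
import Mathlib.Tactic.LinearCombination
import Mathlib.Tactic.ReduceModChar

/-!
# Infinitesimal rigidity of elliptic curves

An admissible change of variables congruent to the identity modulo a square-zero ideal which fixes
an elliptic curve defined over a field is the identity.
-/

set_option autoImplicit false

universe u v

namespace Groth.Agent.EllLift6

open WeierstrassCurve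

theorem eq_one_of_smul_eq {k : Type u} [Field k] {Q : Type v} [CommRing Q] (f : k →+* Q) (W : WeierstrassCurve k)
    [W.IsElliptic] (n : Ideal Q) (hn : ∀ a ∈ n, ∀ b ∈ n, a * b = 0) (C : VariableChange Q)
    (hu : (C.u : Q) - 1 ∈ n) (hr : C.r ∈ n) (hs : C.s ∈ n) (ht : C.t ∈ n)
    (hC : C • W.map f = W.map f) : C = 1 := by
  obtain ⟨u, r, s, t⟩ := C
  simp only at hu hr hs ht
  let U := (u : Q) - 1
  have hU : U ∈ n := hu
  have hu1 : (u : Q) = 1 + U := by simp [U]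
  have huinv : (↑u⁻¹ : Q) = 1 - U := by
    rw [← Units.mul_right_inj u, Units.mul_inv, hu1]
    linear_combination -(hn U hU U hU) * (-1)
  have h1 := congrArg WeierstrassCurve.a₁ hC
  have h2 := congrArg WeierstrassCurve.a₂ hC
  have h3 := congrArg WeierstrassCurve.a₃ hC
  have h4 := congrArg WeierstrassCurve.a₄ hC
  have h6 := congrArg WeierstrassCurve.a₆ hC
  simp only [variableChange_a₁, variableChange_a₂, variableChange_a₃, variableChange_a₄,
    variableChange_a₆, map_a₁, map_a₂, map_a₃, map_a₄, map_a₆, huinv] at h1 h2 h3 h4 h6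
  have zUU := hn U hU U hU
  have zUr := hn U hU r hr
  have zUs := hn U hU s hs
  have zUt := hn U hU t ht
  have zrr := hn r hr r hr
  have zss := hn s hs s hs
  have ztt := hn t ht t ht
  have zrs := hn r hr s hs
  have zrt := hn r hr t ht
  have zst := hn s hs t ht
  have e1 : U * f W.a₁ = 2 * s := by linear_combination (-h1) - 2 * zUs
  have e2 : 2 * U * f W.a₂ = -s * f W.a₁ + 3 * r := by
    linear_combination (-h2) + (f W.a₂ - s * f W.a₁ + 3 * r - s ^ 2) * zUU + (2 * f W.a₁) * zUs - 6 * zUr +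
      (2 * U - 1) * zss
  have e3 : 3 * U * f W.a₃ = r * f W.a₁ + 2 * t := by
    linear_combination (-h3) + ((3 - U) * (f W.a₃ + r * f W.a₁ + 2 * t)) * zUU - (3 * f W.a₁) * zUr - 6 * zUt
  have e4 : 4 * U * f W.a₄ = -s * f W.a₃ + 2 * r * f W.a₂ - t * f W.a₁ := by
    linear_combination (-h4) + ((6 - 4 * U + U ^ 2) * (f W.a₄ - s * f W.a₃ + 2 * r * f W.a₂ - (t + r * s) * f W.a₁ +
      3 * r ^ 2 - 2 * s * t)) * zUU + 4 * f W.a₃ * zUs - 8 * f W.a₂ * zUr + 4 * f W.a₁ * zUt +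
      (1 - 4 * U) * (3 * zrr - 2 * zst - f W.a₁ * zrs)
  have e6 : 6 * U * f W.a₆ = r * f W.a₄ - t * f W.a₃ := by
    linear_combination (-h6) + ((15 - 20 * U + 15 * U ^ 2 - 6 * U ^ 3 + U ^ 4) * (f W.a₆ + r * f W.a₄ + r ^ 2 * f W.a₂ +
      r ^ 3 - t * f W.a₃ - t ^ 2 - r * t * f W.a₁)) * zUU - 6 * f W.a₄ * zUr + 6 * f W.a₃ * zUt +
      (1 - 6 * U) * ((f W.a₂ + r) * zrr - ztt - f W.a₁ * zrt)
  -- division by nonzero scalars
  have hdiv : ∀ (c : k) (x : Q), c ≠ 0 → f c * x = 0 → x = 0 := fun c x hc h =>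
    ((isUnit_iff_ne_zero.2 hc).map f).mul_right_eq_zero.1 h
  suffices hU0 : U = 0 ∧ r = 0 ∧ s = 0 ∧ t = 0 by
    obtain ⟨a, b, c, d⟩ := hU0
    refine VariableChange.ext (Units.ext ?_) b c d
    show (u : Q) = 1
    rw [hu1, a, add_zero]
  have hΔ : W.Δ ≠ 0 := W.isUnit_Δ.ne_zero
  by_cases h2k : (2 : k) = 0
  · have h2Q : (2 : Q) = 0 := by rw [← map_ofNat f 2, h2k, map_zero]
    by_cases ha1 : W.a₁ = 0
    · rw [ha1, map_zero] at e1 e2 e3 e4
      have ha3 : W.a₃ ≠ 0 := fun ha3 => hΔ (by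
        simp only [WeierstrassCurve.Δ, b₂, b₄, b₆, b₈, ha1, ha3]
        linear_combination (-(216 * W.a₆ ^ 2) - 32 * W.a₄ ^ 3 + 144 * W.a₂ * W.a₄ * W.a₆ -
          2 * W.a₂ ^ 2 * (16 * W.a₂ * W.a₆ - 4 * W.a₄ ^ 2)) * h2k)
      have hU0 : U = 0 := hdiv _ _ ha3 (by linear_combination e3 + (t - U * f W.a₃) * h2Q)
      have hs0 : s = 0 := hdiv _ _ ha3 (by linear_combination e4 + (r * f W.a₂ - 2 * U * f W.a₄) * h2Q)
      have hr0 : r = 0 := by linear_combination (-e2) + (U * f W.a₂ - r) * h2Q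
      refine ⟨hU0, hr0, hs0, hdiv _ _ ha3 ?_⟩
      rw [hr0, hU0] at e6
      linear_combination e6
    · have hU0 : U = 0 := hdiv _ _ ha1 (by linear_combination e1 + s * h2Q)
      have hr0 : r = 0 := hdiv _ _ ha1 (by rw [hU0] at e3; linear_combination (-e3) - t * h2Q)
      have hs0 : s = 0 := hdiv _ _ ha1 (by rw [hU0, hr0] at e2; linear_combination e2)
      refine ⟨hU0, hr0, hs0, hdiv _ _ ha1 ?_⟩
      rw [hU0, hr0, hs0] at e4
      linear_combination e4
  have hdiv2 : ∀ x : Q, 2 * x = 0 → x = 0 := fun x hx => hdiv 2 x h2k (by rw [map_ofNat]; exact hx)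
  suffices hUr : U = 0 ∧ r = 0 by
    obtain ⟨a, b⟩ := hUr
    rw [a] at e1 e3
    rw [b] at e3
    exact ⟨a, b, hdiv2 _ (by linear_combination -e1), hdiv2 _ (by linear_combination -e3)⟩
  have eb2 : 2 * U * f W.b₂ = 12 * r := by
    simp only [b₂, map_add, map_mul, map_pow, map_ofNat]
    linear_combination 4 * e2 + 2 * f W.a₁ * e1
  have eb4 : 4 * U * f W.b₄ = r * f W.b₂ := by
    simp only [b₂, b₄, map_add, map_mul, map_pow, map_ofNat]
    linear_combination 2 * e4 + f W.a₁ * e3 + f W.a₃ * e1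
  have eb6 : 6 * U * f W.b₆ = 2 * r * f W.b₄ := by
    simp only [b₄, b₆, map_add, map_mul, map_pow, map_ofNat]
    linear_combination 4 * e6 + 2 * f W.a₃ * e3
  by_cases h3k : (3 : k) = 0
  · have h3Q : (3 : Q) = 0 := by rw [← map_ofNat f 3, h3k, map_zero]
    by_cases hb2 : W.b₂ = 0
    · rw [hb2, map_zero] at eb4
      have hb4 : W.b₄ ≠ 0 := fun hb4 => hΔ (by
        simp only [WeierstrassCurve.Δ, hb2, hb4]
        linear_combination (-9 * W.b₆ ^ 2) * h3k)
      have hU0 : U = 0 := hdiv _ _ hb4 (by linear_combination eb4 - U * f W.b₄ * h3Q)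
      rw [hU0] at eb6
      exact ⟨hU0, hdiv _ _ hb4 (hdiv2 _ (by linear_combination -eb6))⟩
    · have hU0 : U = 0 := hdiv _ _ hb2 (hdiv2 _ (by linear_combination eb2 + 4 * r * h3Q))
      rw [hU0] at eb4
      exact ⟨hU0, hdiv _ _ hb2 (by linear_combination -eb4)⟩
  have e12 : (12 : Q) * f W.Δ * U = 0 := by
    simp only [WeierstrassCurve.Δ, map_add, map_sub, map_mul, map_neg, map_pow, map_ofNat]
    have hb8 : 4 * f W.b₈ = f W.b₂ * f W.b₆ - f W.b₄ ^ 2 := by
      have := congrArg f W.b_relation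
      simpa only [map_sub, map_mul, map_pow, map_ofNat] using this
    have eb8 : 8 * U * f W.b₈ = 3 * r * f W.b₆ := by
      apply sub_eq_zero.1 (hdiv2 _ (hdiv2 _ ?_))
      linear_combination f W.b₆ * eb2 + f W.b₂ * eb6 - 2 * f W.b₄ * eb4 + 8 * U * hb8
    linear_combination (-(2 * f W.b₂ * f W.b₈) + 9 * f W.b₄ * f W.b₆) * eb2 +
      (-24 * f W.b₄ ^ 2 + 9 * f W.b₂ * f W.b₆) * eb4 + (-54 * f W.b₆ + 9 * f W.b₂ * f W.b₄) * eb6 +
      (-f W.b₂ ^ 2) * eb8 - 6 * r * f W.b₂ * hb8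
  have hU0 : U = 0 := hdiv (12 * W.Δ) _ (by
    refine mul_ne_zero ?_ hΔ
    rw [show (12 : k) = 2 * 2 * 3 by norm_num]
    exact mul_ne_zero (mul_ne_zero h2k h2k) h3k) (by rw [map_mul, map_ofNat]; exact e12)
  rw [hU0] at eb2
  exact ⟨hU0, hdiv 3 _ h3k (hdiv2 _ (hdiv2 _ (by rw [map_ofNat]; linear_combination -eb2)))⟩

end Groth.Agent.EllLift6
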